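/-
Fixed points of a Sylow subgroup in an action of a group generated by its p-elements:
`p · fix ≤ (p-1) · moved`, with the sharper bound given by an uncovered point set.
-/
import Mathlib

set_option autoImplicit false

universe u

open scoped Classical Pointwise

namespace CfsgLib.SylowCount

variable {M : Type u} [Group M]

/-- the subgroup generated by the `p`-elements of `H` -/
def pCore (p : ℕ) (H : Subgroup M) : Subgroup M :=
  Subgroup.closure {g : M | g ∈ H ∧ ∃ k : ℕ, orderOf g = p ^ k}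

theorem pCore_le (p : ℕ) (H : Subgroup M) : pCore p H ≤ H :=
  (Subgroup.closure_le H).mpr fun _ hg => hg.1

theorem pCore_mono (p : ℕ) {H K : Subgroup M} (h : H ≤ K) : pCore p H ≤ pCore p K :=
  Subgroup.closure_mono fun _ hg => ⟨h hg.1, hg.2⟩

theorem pElem_of_mem {p : ℕ} [hp : Fact p.Prime] {R : Subgroup M} (hR : IsPGroup p R) {g : M}
    (hg : g ∈ R) : ∃ k : ℕ, orderOf g = p ^ k := by
  obtain ⟨k, hk⟩ := IsPGroup.iff_orderOf.mp hR ⟨g, hg⟩
  exact ⟨k, by rw [← hk, ← Subgroup.orderOf_coe]⟩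

theorem le_pCore {p : ℕ} [Fact p.Prime] {H R : Subgroup M} (hR : IsPGroup p R) (h : R ≤ H) :
    R ≤ pCore p H :=
  fun _ hg => Subgroup.subset_closure ⟨h hg, pElem_of_mem hR hg⟩

theorem pCore_map (p : ℕ) (e : M ≃* M) (H : Subgroup M) :
    pCore p (H.map e.toMonoidHom) = (pCore p H).map e.toMonoidHom := by
  unfold pCore
  rw [MonoidHom.map_closure]
  congr 1
  ext g
  constructor
  · rintro ⟨⟨h, hh, rfl⟩, k, hk⟩
    exact ⟨h, ⟨hh, k, by simpa [MulEquiv.orderOf_eq] using hk⟩, rfl⟩
  · rintro ⟨h, ⟨hh, k, hk⟩, rfl⟩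
    exact ⟨⟨h, hh, rfl⟩, k, by simpa [MulEquiv.orderOf_eq] using hk⟩

/-- `↥(pCore p H)` is generated by its `p`-elements -/
theorem pCore_gen (p : ℕ) (H : Subgroup M) :
    Subgroup.closure {g : ↥(pCore p H) | ∃ k : ℕ, orderOf g = p ^ k} = ⊤ := by
  refine le_antisymm le_top ?_
  have h := Subgroup.closure_closure_coe_preimage (k := {g : M | g ∈ H ∧ ∃ k : ℕ, orderOf g = p ^ k})
  refine le_trans (le_of_eq h.symm) (Subgroup.closure_mono ?_)
  intro g hg
  obtain ⟨-, k, hk⟩ := hg
  exact ⟨k, (Subgroup.orderOf_coe _).symm.trans hk⟩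

theorem eq_top_of_pElems {p : ℕ} (hgen : Subgroup.closure {g : M | ∃ k : ℕ, orderOf g = p ^ k} = ⊤)
    {H : Subgroup M} (h : ∀ g : M, (∃ k : ℕ, orderOf g = p ^ k) → g ∈ H) : H = ⊤ :=
  top_le_iff.mp (hgen ▸ (Subgroup.closure_le H).mpr h)

variable {p : ℕ} [hp : Fact p.Prime] [Finite M]

/-- a `p`-element of `K` is conjugate within `K` into any Sylow subgroup lying in `K` -/
theorem exists_conj_into {K : Subgroup M} (R : Sylow p M) (hRK : (R : Subgroup M) ≤ K) {z : M}
    (hzK : z ∈ K) (hz : ∃ k : ℕ, orderOf z = p ^ k) :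
    ∃ k ∈ K, k⁻¹ * z * k ∈ (R : Subgroup M) := by
  obtain ⟨a, ha⟩ := hz
  set z' : K := ⟨z, hzK⟩
  have hP : IsPGroup p (Subgroup.zpowers z') := by
    apply IsPGroup.of_card (n := a)
    rw [Nat.card_zpowers, ← Subgroup.orderOf_coe]
    exact ha
  obtain ⟨T, hT⟩ := hP.exists_le_sylow
  obtain ⟨k, hk⟩ := MulAction.exists_smul_eq K (R.subtype hRK) T
  have hzT : z' ∈ T := hT (Subgroup.mem_zpowers z')
  rw [← hk] at hzT
  refine ⟨k, k.2, ?_⟩
  have := Subgroup.mem_pointwise_smul_iff_inv_smul_mem.mp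
    (show z' ∈ MulAut.conj k • (R.subtype hRK : Subgroup K) from hzT)
  simpa [MulAut.conj_inv_apply, MulAut.smul_def, Subgroup.mem_subgroupOf, Sylow.coe_subtype, z'] using this

/-- the key observation: a `p`-element whose orbit on `c` is fixed pointwise by a Sylow subgroup
fixes `c` -/
theorem smul_eq_of_orbit_fixed {Ω : Type*} [MulAction M Ω] (R : Sylow p M) {z : M}
    (hz : ∃ k : ℕ, orderOf z = p ^ k) (c : Ω)
    (h : ∀ i : ℤ, (R : Subgroup M) ≤ MulAction.stabilizer M (z ^ i • c)) : z • c = c := by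
  let K : Subgroup M :=
    { carrier := {g | (∀ i : ℤ, ∃ j : ℤ, g • z ^ i • c = z ^ j • c) ∧
        ∀ i : ℤ, ∃ j : ℤ, g⁻¹ • z ^ i • c = z ^ j • c}
      one_mem' := ⟨fun i => ⟨i, one_smul _ _⟩, fun i => ⟨i, by simp⟩⟩
      mul_mem' := by
        rintro a b ⟨ha, ha'⟩ ⟨hb, hb'⟩
        constructor
        · intro i
          obtain ⟨j, hj⟩ := hb i
          obtain ⟨l, hl⟩ := ha j
          exact ⟨l, by rw [mul_smul, hj, hl]⟩
        · intro i
          obtain ⟨j, hj⟩ := ha' i
          obtain ⟨l, hl⟩ := hb' j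
          exact ⟨l, by rw [mul_inv_rev, mul_smul, hj, hl]⟩
      inv_mem' := by
        rintro a ⟨ha, ha'⟩
        exact ⟨ha', by simpa using ha⟩ }
  have hRK : (R : Subgroup M) ≤ K := fun r hr =>
    ⟨fun i => ⟨i, h i hr⟩, fun i => ⟨i, h i (inv_mem hr)⟩⟩
  have hzK : z ∈ K := ⟨fun i => ⟨1 + i, by rw [zpow_add, zpow_one, mul_smul]⟩,
    fun i => ⟨-1 + i, by rw [zpow_add, zpow_neg_one, mul_smul]⟩⟩
  obtain ⟨k, hk, hk'⟩ := exists_conj_into R hRK hzK hz
  obtain ⟨j, hj⟩ := hk.2 0
  simp only [zpow_zero, one_smul] at hj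
  have hfix : (k⁻¹ * z * k) • z ^ j • c = z ^ j • c := h j hk'
  rw [← hj, ← mul_smul, mul_inv_cancel_right, mul_smul] at hfix
  exact MulAction.injective k⁻¹ hfix

variable {Ω : Type u} [MulAction M Ω]

/-- `X` is invariant -/
def Inv (M : Type u) [Group M] {Ω : Type u} [MulAction M Ω] (X : Finset Ω) : Prop :=
  ∀ (m : M), ∀ x ∈ X, m • x ∈ X

/-- the weight of a point relative to a subgroup `S` -/
noncomputable def wgt (p : ℕ) (S : Subgroup M) (x : Ω) : ℤ :=
  if MulAction.stabilizer M x = ⊤ then 0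
  else if S ≤ MulAction.stabilizer M x then (p : ℤ) else -((p : ℤ) - 1)

/-- some Sylow subgroup fixes all of `U` -/
def Covered (p : ℕ) (M : Type u) [Group M] {Ω : Type u} [MulAction M Ω] (U : Finset Ω) : Prop :=
  ∃ R : Sylow p M, ∀ x ∈ U, (R : Subgroup M) ≤ MulAction.stabilizer M x

omit [Finite M] in
theorem moved_smul {x : Ω} (m : M) (hx : MulAction.stabilizer M x = ⊤) :
    m • x = x := MulAction.mem_stabilizer_iff.mp (hx ▸ Subgroup.mem_top m)

omit hp in
theorem wgt_sum_conj (X : Finset Ω) (hX : Inv M X) (R T : Sylow p M) [Fact p.Prime] :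
    ∑ x ∈ X, wgt p (R : Subgroup M) x = ∑ x ∈ X, wgt p (T : Subgroup M) x := by
  obtain ⟨m, rfl⟩ := MulAction.exists_smul_eq M R T
  refine Finset.sum_nbij' (fun x => m • x) (fun x => m⁻¹ • x) (fun x hx => hX m x hx)
    (fun x hx => hX m⁻¹ x hx) (fun x _ => inv_smul_smul m x) (fun x _ => smul_inv_smul m x) ?_
  intro x _
  have e1 := MulAction.stabilizer_smul_eq_stabilizer_map_conj m x
  unfold wgt
  rw [e1, Sylow.coe_subgroup_smul, Subgroup.pointwise_smul_def]
  have hinj : Function.Injective (MulAut.conj m).toMonoidHom := (MulAut.conj m).injective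
  have e2 : ((MulAction.stabilizer M x).map (MulAut.conj m).toMonoidHom = ⊤) ↔
      MulAction.stabilizer M x = ⊤ := by
    conv_lhs => rw [← Subgroup.map_top_of_surjective (MulAut.conj m).toMonoidHom
      (MulAut.conj m).surjective]
    exact (Subgroup.map_injective hinj).eq_iff
  have e3 : ((R : Subgroup M).map (MulAut.conj m).toMonoidHom ≤
      (MulAction.stabilizer M x).map (MulAut.conj m).toMonoidHom) ↔
      (R : Subgroup M) ≤ MulAction.stabilizer M x := Subgroup.map_le_map_iff_of_injective hinj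
  rw [show (MulDistribMulAction.toMonoidEnd (MulAut M) M) (MulAut.conj m) =
    (MulAut.conj m).toMonoidHom from rfl]
  simp only [e2, e3]

omit [Finite M] hp in
theorem weighted_nonpos (h : Ω → ℤ)
    (horb : ∀ Y : Finset Ω, Inv M Y → (∀ y ∈ Y, ∀ y' ∈ Y, y' ∈ MulAction.orbit M y) →
      ∑ y ∈ Y, h y ≤ 0)
    (w : Ω → ℤ) (hw0 : ∀ x, 0 ≤ w x) (hw : ∀ (m : M) (x : Ω), w (m • x) = w x)
    (X : Finset Ω) (hX : Inv M X) : ∑ x ∈ X, w x * h x ≤ 0 := by
  induction X using Finset.strongInduction with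
  | H X ih =>
    rcases X.eq_empty_or_nonempty with rfl | ⟨x, hx⟩
    · simp
    · set Y := X.filter (fun y => y ∈ MulAction.orbit M x) with hY
      set Z := X.filter (fun y => ¬ y ∈ MulAction.orbit M x) with hZ
      have hYinv : Inv M Y := by
        intro m y hy
        rw [hY, Finset.mem_filter] at hy ⊢
        refine ⟨hX m y hy.1, ?_⟩
        obtain ⟨g, rfl⟩ := hy.2
        exact ⟨m * g, mul_smul m g x⟩
      have hZinv : Inv M Z := by
        intro m y hy
        rw [hZ, Finset.mem_filter] at hy ⊢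
        refine ⟨hX m y hy.1, fun ⟨g, hg⟩ => hy.2 ⟨m⁻¹ * g, ?_⟩⟩
        show (m⁻¹ * g) • x = y
        rw [mul_smul, show g • x = m • y from hg, inv_smul_smul]
      have hsub : Z ⊂ X :=
        Finset.filter_ssubset.mpr ⟨x, hx, fun hne => hne (MulAction.mem_orbit_self x)⟩
      have h1 : ∑ y ∈ Y, w y * h y ≤ 0 := by
        have hc : ∀ y ∈ Y, w y * h y = w x * h y := by
          intro y hy
          obtain ⟨g, rfl⟩ := (Finset.mem_filter.mp hy).2
          rw [hw]
        rw [Finset.sum_congr rfl hc, ← Finset.mul_sum]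
        refine mul_nonpos_of_nonneg_of_nonpos (hw0 x) (horb Y hYinv ?_)
        intro y hy y' hy'
        rw [MulAction.orbit_eq_iff.mpr (Finset.mem_filter.mp hy).2]
        exact (Finset.mem_filter.mp hy').2
      rw [← Finset.sum_filter_add_sum_filter_not X (fun y => y ∈ MulAction.orbit M x)]
      have h2 := ih Z hsub hZinv
      exact add_nonpos h1 h2

/-- points of the auxiliary action: subgroups under conjugation -/
@[ext] structure SubPt (M : Type u) [Group M] : Type u where
  sub : Subgroup M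

instance SubPt.instMulAction (M : Type u) [Group M] : MulAction M (SubPt M) where
  smul m A := ⟨A.sub.map (MulAut.conj m).toMonoidHom⟩
  one_smul A := by
    refine SubPt.ext ?_
    show A.sub.map (MulAut.conj (1 : M)).toMonoidHom = A.sub
    ext g
    simp [Subgroup.mem_map]
  mul_smul a b A := by
    refine SubPt.ext ?_
    show A.sub.map (MulAut.conj (a * b)).toMonoidHom =
      (A.sub.map (MulAut.conj b).toMonoidHom).map (MulAut.conj a).toMonoidHom
    rw [Subgroup.map_map]
    congr 1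
    ext g
    simp [mul_assoc]

/-- the core point of `x` -/
def corePt (p : ℕ) (M : Type u) [Group M] {Ω : Type u} [MulAction M Ω] (x : Ω) : SubPt M :=
  ⟨pCore p (MulAction.stabilizer M x)⟩

omit [Finite M] hp in
theorem corePt_smul (m : M) (x : Ω) : corePt p M (m • x) = m • corePt p M x := by
  refine SubPt.ext ?_
  show pCore p (MulAction.stabilizer M (m • x)) =
    (pCore p (MulAction.stabilizer M x)).map (MulAut.conj m).toMonoidHom
  rw [MulAction.stabilizer_smul_eq_stabilizer_map_conj, pCore_map]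

/-- `p`-elements fixing a covered core point lie in it -/
theorem pElem_stab_corePt {x : Ω} (R : Sylow p M) (hR : (R : Subgroup M) ≤ MulAction.stabilizer M x)
    {z : M} (hz : ∃ k : ℕ, orderOf z = p ^ k) (hzK : z • corePt p M x = corePt p M x) :
    z ∈ pCore p (MulAction.stabilizer M x) := by
  set A := pCore p (MulAction.stabilizer M x) with hA
  have hAK : A ≤ MulAction.stabilizer M (corePt p M x) := by
    intro a ha
    rw [MulAction.mem_stabilizer_iff]
    refine SubPt.ext ?_
    show A.map (MulAut.conj a).toMonoidHom = A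
    ext g
    constructor
    · rintro ⟨h, hh, rfl⟩
      exact mul_mem (mul_mem ha hh) (inv_mem ha)
    · intro hg
      exact ⟨a⁻¹ * g * a, mul_mem (mul_mem (inv_mem ha) hg) ha, by simp [mul_assoc]⟩
  have hRA : (R : Subgroup M) ≤ A := le_pCore R.isPGroup' hR
  obtain ⟨k, hk, hk'⟩ := exists_conj_into R (hRA.trans hAK)
    (MulAction.mem_stabilizer_iff.mpr hzK) hz
  have h1 : A.map (MulAut.conj k).toMonoidHom = A :=
    congrArg SubPt.sub (MulAction.mem_stabilizer_iff.mp hk)
  rw [← h1]
  exact ⟨k⁻¹ * z * k, hRA hk', by simp [mul_assoc]⟩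

/-- the properties of the core point of a covered point -/
theorem corePt_props {x : Ω} (hgen : Subgroup.closure {g : M | ∃ k : ℕ, orderOf g = p ^ k} = ⊤)
    (hmoved : MulAction.stabilizer M x ≠ ⊤) (R : Sylow p M)
    (hR : (R : Subgroup M) ≤ MulAction.stabilizer M x) :
    (∀ T : Sylow p M, (T : Subgroup M) ≤ MulAction.stabilizer M (corePt p M x) ↔
      (T : Subgroup M) ≤ MulAction.stabilizer M x) ∧
    MulAction.stabilizer M (corePt p M x) ≠ ⊤ ∧
    pCore p (MulAction.stabilizer M (corePt p M x)) = pCore p (MulAction.stabilizer M x) := by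
  have key : ∀ z : M, (∃ k : ℕ, orderOf z = p ^ k) → z ∈ MulAction.stabilizer M (corePt p M x) →
      z ∈ pCore p (MulAction.stabilizer M x) :=
    fun z hz hzK => pElem_stab_corePt R hR hz (MulAction.mem_stabilizer_iff.mp hzK)
  have hle : MulAction.stabilizer M x ≤ MulAction.stabilizer M (corePt p M x) := by
    intro m hm
    rw [MulAction.mem_stabilizer_iff] at hm ⊢
    rw [← corePt_smul, hm]
  refine ⟨fun T => ⟨fun hT g hg => pCore_le p _ (key g (pElem_of_mem T.isPGroup' hg) (hT hg)),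
    fun hT => hT.trans hle⟩, ?_, ?_⟩
  · intro htop
    refine hmoved (top_le_iff.mp ?_)
    rw [← eq_top_of_pElems hgen (H := pCore p (MulAction.stabilizer M x))
      (fun z hz => key z hz (htop ▸ Subgroup.mem_top z))]
    exact pCore_le p _
  · refine le_antisymm ?_ (pCore_mono p hle)
    exact (Subgroup.closure_le _).mpr fun z hz => key z hz.2 hz.1

omit [Finite M] hp in
theorem inv_image_corePt (X : Finset Ω) (hX : Inv M X) : Inv M (X.image (corePt p M)) := by
  intro m A hA
  obtain ⟨x, hx, rfl⟩ := Finset.mem_image.mp hA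
  exact Finset.mem_image.mpr ⟨m • x, hX m x hx, corePt_smul m x⟩

/-- the main statement for a group `M` -/
def Bound (p : ℕ) (M : Type u) [Group M] : Prop :=
  ∀ (Ω : Type u) [MulAction M Ω] (X : Finset Ω), Inv M X → ∀ (S : Sylow p M) (U : Finset Ω),
    U ⊆ X → ¬ Covered p M U → U.card ≤ p →
    ∑ x ∈ X, wgt p (S : Subgroup M) x ≤ -((p : ℤ) * ((p : ℤ) - U.card))

section step

variable (hgen : Subgroup.closure {g : M | ∃ k : ℕ, orderOf g = p ^ k} = ⊤)
  (ih : ∀ A : Subgroup M, A ≠ ⊤ →
    Subgroup.closure {g : ↥A | ∃ k : ℕ, orderOf g = p ^ k} = ⊤ → Bound p ↥A)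
include hgen ih

omit hgen in
/-- the reduced case -/
theorem bound_reduced (X : Finset Ω) (hX : Inv M X) (S : Sylow p M) (U : Finset Ω) (hUX : U ⊆ X)
    (hU : ¬ Covered p M U) (hUp : U.card ≤ p)
    (hgood : ∀ x ∈ X, MulAction.stabilizer M x ≠ ⊤ ∧
      ∃ R : Sylow p M, (R : Subgroup M) ≤ MulAction.stabilizer M x)
    (a : Ω) (ha : a ∈ U)
    (hmax : ∀ y ∈ X, pCore p (MulAction.stabilizer M a) ≤ MulAction.stabilizer M y → y = a) :
    ∑ x ∈ X, wgt p (S : Subgroup M) x ≤ -((p : ℤ) * ((p : ℤ) - U.card)) := by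
  obtain ⟨hamoved, R, hR⟩ := hgood a (hUX ha)
  set A := pCore p (MulAction.stabilizer M a) with hA
  have hAne : A ≠ ⊤ := fun h => hamoved (top_le_iff.mp (h ▸ pCore_le p _))
  have hRA : (R : Subgroup M) ≤ A := le_pCore R.isPGroup' hR
  have hXA : Inv ↥A X := fun m x hx => hX (m : M) x hx
  set R' : Sylow p ↥A := R.subtype hRA
  have hU' : ¬ Covered p ↥A (U.erase a) := by
    rintro ⟨T, hT⟩
    obtain ⟨T', hT'⟩ := (T.isPGroup'.map A.subtype).exists_le_sylow
    have hcard : Nat.card (T : Subgroup ↥A) = Nat.card (T' : Subgroup M) := by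
      rw [Nat.card_congr (Sylow.equiv T R').toEquiv,
        Nat.card_congr (Sylow.equiv T' R).toEquiv]
      exact Nat.card_congr (Subgroup.subgroupOfEquivOfLe hRA).toEquiv
    have heq : (T : Subgroup ↥A).map A.subtype = (T' : Subgroup M) := by
      refine Subgroup.eq_of_le_of_card_ge hT' (le_of_eq ?_)
      rw [← hcard, Subgroup.card_map_of_injective A.subtype_injective]
    refine hU ⟨T', fun x hx => ?_⟩
    rw [← heq]
    rintro _ ⟨t, ht, rfl⟩
    rw [MulAction.mem_stabilizer_iff]
    by_cases hxa : x = a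
    · rw [hxa]
      exact MulAction.mem_stabilizer_iff.mp (pCore_le p _ t.2)
    · exact MulAction.mem_stabilizer_iff.mp (hT x (Finset.mem_erase.mpr ⟨hxa, hx⟩) ht)
  have hrec := ih A hAne (pCore_gen p _) Ω X hXA R' (U.erase a)
    ((Finset.erase_subset a U).trans hUX) hU'
    (le_trans (Finset.card_le_card (Finset.erase_subset a U)) hUp)
  have hw : ∀ x ∈ X, wgt p (R : Subgroup M) x =
      wgt p (R' : Subgroup ↥A) x + (if x = a then (p : ℤ) else 0) := by
    intro x hx
    have hfix : MulAction.stabilizer ↥A x = ⊤ ↔ A ≤ MulAction.stabilizer M x := by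
      constructor
      · intro h g hg
        exact MulAction.mem_stabilizer_iff.mpr
          (moved_smul (⟨g, hg⟩ : ↥A) h : (⟨g, hg⟩ : ↥A) • x = x)
      · intro h
        exact top_le_iff.mp fun g _ =>
          MulAction.mem_stabilizer_iff.mpr (MulAction.mem_stabilizer_iff.mp (h g.2))
    have hR' : (R' : Subgroup ↥A) ≤ MulAction.stabilizer ↥A x ↔
        (R : Subgroup M) ≤ MulAction.stabilizer M x := by
      constructor
      · intro h g hg
        exact MulAction.mem_stabilizer_iff.mpr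
          (MulAction.mem_stabilizer_iff.mp (h (show (⟨g, hRA hg⟩ : ↥A) ∈ (R' : Subgroup ↥A) from hg)))
      · intro h g hg
        exact MulAction.mem_stabilizer_iff.mpr (MulAction.mem_stabilizer_iff.mp (h hg))
    unfold wgt
    rw [if_neg (hgood x hx).1]
    simp only [hfix, hR']
    by_cases hxa : x = a
    · subst hxa
      rw [if_pos hR, if_pos (pCore_le p _), if_pos rfl, zero_add]
    · have hAx : ¬ A ≤ MulAction.stabilizer M x := fun h => hxa (hmax x hx h)
      rw [if_neg hAx, if_neg hxa, add_zero]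
  rw [wgt_sum_conj X hX S R, Finset.sum_congr rfl hw, Finset.sum_add_distrib,
    Finset.sum_ite_eq' X a, if_pos (hUX ha)]
  have hcard : ((U.erase a).card : ℤ) = (U.card : ℤ) - 1 := by
    rw [Finset.card_erase_of_mem ha]
    have : 1 ≤ U.card := Finset.card_pos.mpr ⟨a, ha⟩
    omega
  rw [hcard] at hrec
  linarith

omit ih in
/-- there is an uncovered set of size at most `p` among moved points -/
theorem exists_uncovered (X : Finset Ω) (hX : Inv M X) {x0 : Ω} (hx0 : x0 ∈ X)
    (hm : MulAction.stabilizer M x0 ≠ ⊤) :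
    ∃ U : Finset Ω, U ⊆ X ∧ U.card ≤ p ∧ ¬ Covered p M U := by
  have hex : ∃ z : M, (∃ k : ℕ, orderOf z = p ^ k) ∧ z • x0 ≠ x0 := by
    by_contra hc
    push Not at hc
    exact hm (eq_top_of_pElems hgen fun g hg => MulAction.mem_stabilizer_iff.mpr (hc g hg))
  obtain ⟨z, ⟨k, hk⟩, hzx⟩ := hex
  have hstep : ∃ i : ℕ, z ^ (p ^ i) • x0 ≠ x0 ∧ z ^ (p ^ (i + 1)) • x0 = x0 := by
    by_contra hc
    push Not at hc
    have hall : ∀ i : ℕ, z ^ (p ^ i) • x0 ≠ x0 := by
      intro i
      induction i with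
      | zero => simpa using hzx
      | succ i hi => exact hc i hi
    exact hall k (by rw [← hk, pow_orderOf_eq_one, one_smul])
  obtain ⟨i, hy, hyp⟩ := hstep
  set y := z ^ (p ^ i) with hydef
  have hyp' : y ^ p • x0 = x0 := by rwa [hydef, ← pow_mul, ← pow_succ]
  have hyord : ∃ j : ℕ, orderOf y = p ^ j := by
    have hd : orderOf y ∣ p ^ k := hk ▸ orderOf_pow_dvd _
    obtain ⟨j, -, hj⟩ := (Nat.dvd_prime_pow hp.out).mp hd
    exact ⟨j, hj⟩
  refine ⟨(Finset.range p).image (fun j : ℕ => y ^ j • x0), ?_,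
    le_trans Finset.card_image_le (le_of_eq (Finset.card_range p)), ?_⟩
  · intro x hx
    obtain ⟨j, -, rfl⟩ := Finset.mem_image.mp hx
    exact hX _ _ hx0
  · rintro ⟨R, hR⟩
    refine hy (smul_eq_of_orbit_fixed R hyord x0 fun j => ?_)
    have hmem : y ^ p ∈ MulAction.stabilizer M x0 := MulAction.mem_stabilizer_iff.mpr hyp'
    have hppos : (0 : ℤ) < p := by exact_mod_cast hp.out.pos
    have h0 := Int.emod_nonneg j hppos.ne'
    have h1 := Int.emod_lt_of_pos j hppos
    have hj : y ^ j • x0 = y ^ (j % (p : ℤ)).toNat • x0 := by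
      conv_lhs => rw [← Int.emod_add_mul_ediv j p, zpow_add, zpow_mul, zpow_natCast, mul_smul,
        MulAction.mem_stabilizer_iff.mp (zpow_mem hmem (j / p))]
      rw [← zpow_natCast y (j % (p : ℤ)).toNat, Int.toNat_of_nonneg h0]
    rw [hj]
    exact hR _ (Finset.mem_image.mpr ⟨_, Finset.mem_range.mpr (by omega), rfl⟩)

/-- the sum over one orbit is nonpositive -/
theorem orbit_nonpos (S : Sylow p M) (Y : Finset Ω) (hY : Inv M Y)
    (htr : ∀ y ∈ Y, ∀ y' ∈ Y, y' ∈ MulAction.orbit M y) :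
    ∑ y ∈ Y, wgt p (S : Subgroup M) y ≤ 0 := by
  by_cases hcov : ∃ y ∈ Y, ∃ R : Sylow p M, (R : Subgroup M) ≤ MulAction.stabilizer M y
  swap
  · push Not at hcov
    refine Finset.sum_nonpos fun y hy => ?_
    unfold wgt
    rw [if_neg (hcov y hy S)]
    have : (2 : ℤ) ≤ p := by exact_mod_cast hp.out.two_le
    split_ifs <;> linarith
  obtain ⟨y0, hy0, R0, hR0⟩ := hcov
  by_cases hm : MulAction.stabilizer M y0 = ⊤
  · refine Finset.sum_nonpos fun y hy => ?_
    obtain ⟨g, rfl⟩ := htr y0 hy0 y hy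
    show wgt p (S : Subgroup M) (g • y0) ≤ 0
    rw [moved_smul g hm]
    unfold wgt
    rw [if_pos hm]
  have hall : ∀ y ∈ Y, MulAction.stabilizer M y ≠ ⊤ ∧
      ∃ R : Sylow p M, (R : Subgroup M) ≤ MulAction.stabilizer M y := by
    intro y hy
    obtain ⟨g, rfl⟩ := htr y0 hy0 y hy
    refine ⟨fun h => hm ?_, g • R0, ?_⟩
    · have h2 : g • y0 = y0 := (MulAction.injective g (moved_smul g h)).trans rfl
      rw [← h2]
      exact h
    · rw [Sylow.coe_subgroup_smul, Subgroup.pointwise_smul_def,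
        MulAction.stabilizer_smul_eq_stabilizer_map_conj]
      exact Subgroup.map_mono hR0
  set Y' := Y.image (corePt p M) with hY'
  set k : SubPt M → ℕ := fun A => (Y.filter (fun y => corePt p M y = A)).card with hk
  have hkconst : ∀ A ∈ Y', k A = k (corePt p M y0) := by
    intro A hA
    obtain ⟨y, hy, rfl⟩ := Finset.mem_image.mp hA
    obtain ⟨g, rfl⟩ := htr y0 hy0 y hy
    refine Finset.card_nbij' (fun x => g⁻¹ • x) (fun x => g • x) ?_ ?_
      (fun x _ => smul_inv_smul g x) (fun x _ => inv_smul_smul g x)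
    · intro x hx
      simp only [Finset.coe_filter, Set.mem_ofPred_eq] at hx ⊢
      exact ⟨hY _ _ hx.1, by rw [corePt_smul, hx.2, corePt_smul, inv_smul_smul]⟩
    · intro x hx
      simp only [Finset.coe_filter, Set.mem_ofPred_eq] at hx ⊢
      exact ⟨hY _ _ hx.1, by rw [corePt_smul, hx.2, corePt_smul]⟩
  have hpt : ∀ y ∈ Y, wgt p (S : Subgroup M) y = wgt p (S : Subgroup M) (corePt p M y) := by
    intro y hy
    obtain ⟨hm', R, hR⟩ := hall y hy
    obtain ⟨h1, h2, -⟩ := corePt_props hgen hm' R hR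
    unfold wgt
    rw [if_neg hm', if_neg h2]
    simp only [h1 S]
  rw [Finset.sum_congr rfl hpt, Finset.sum_comp (wgt p (S : Subgroup M)) (corePt p M)]
  have hsum : ∑ A ∈ Y', k A • wgt p (S : Subgroup M) A =
      k (corePt p M y0) • ∑ A ∈ Y', wgt p (S : Subgroup M) A := by
    rw [Finset.smul_sum]
    exact Finset.sum_congr rfl fun A hA => by rw [hkconst A hA]
  rw [show (∑ A ∈ Y.image (corePt p M), (Y.filter (fun y => corePt p M y = A)).card •
      wgt p (S : Subgroup M) A) = ∑ A ∈ Y', k A • wgt p (S : Subgroup M) A from rfl, hsum]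
  refine smul_nonpos_of_nonneg_of_nonpos (Nat.zero_le _) ?_
  have hgood : ∀ A ∈ Y', MulAction.stabilizer M A ≠ ⊤ ∧
      ∃ R : Sylow p M, (R : Subgroup M) ≤ MulAction.stabilizer M A := by
    intro A hA
    obtain ⟨y, hy, rfl⟩ := Finset.mem_image.mp hA
    obtain ⟨hm', R, hR⟩ := hall y hy
    obtain ⟨h1, h2, -⟩ := corePt_props hgen hm' R hR
    exact ⟨h2, R, (h1 R).mpr hR⟩
  obtain ⟨U, hUY, hUp, hU⟩ := exists_uncovered hgen Y' (inv_image_corePt Y hY)
    (Finset.mem_image_of_mem _ hy0) (hgood _ (Finset.mem_image_of_mem _ hy0)).1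
  obtain ⟨a, ha⟩ : U.Nonempty := by
    rw [Finset.nonempty_iff_ne_empty]
    rintro rfl
    exact hU ⟨S, fun x hx => absurd hx (Finset.notMem_empty x)⟩
  have := bound_reduced ih Y' (inv_image_corePt Y hY) S U hUY hU hUp hgood a ha (by
    intro B hB hle
    obtain ⟨ya, hya, rfl⟩ := Finset.mem_image.mp (hUY ha)
    obtain ⟨yb, hyb, rfl⟩ := Finset.mem_image.mp hB
    obtain ⟨hma, Ra, hRa⟩ := hall ya hya
    obtain ⟨hmb, Rb, hRb⟩ := hall yb hyb
    rw [(corePt_props hgen hma Ra hRa).2.2] at hle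
    have hle' : pCore p (MulAction.stabilizer M ya) ≤ pCore p (MulAction.stabilizer M yb) :=
      (Subgroup.closure_le _).mpr fun g hg =>
        pElem_stab_corePt Rb hRb hg.2
          (MulAction.mem_stabilizer_iff.mp (hle (Subgroup.subset_closure hg)))
    obtain ⟨g, hg⟩ := htr ya hya yb hyb
    have hc : Nat.card (pCore p (MulAction.stabilizer M yb)) =
        Nat.card (pCore p (MulAction.stabilizer M ya)) := by
      rw [← show g • ya = yb from hg, MulAction.stabilizer_smul_eq_stabilizer_map_conj, pCore_map,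
        Subgroup.card_map_of_injective (MulAut.conj g).injective]
    exact SubPt.ext (Subgroup.eq_of_le_of_card_ge hle' (le_of_eq hc)).symm)
  have hnn : (0 : ℤ) ≤ (p : ℤ) * ((p : ℤ) - U.card) := by
    refine mul_nonneg (by positivity) ?_
    have : (U.card : ℤ) ≤ p := by exact_mod_cast hUp
    linarith
  linarith

/-- the induction step -/
theorem bound_step : Bound p M := by
  intro Ω _ X hX S U hUX hU hUp
  have hnp : ∀ (Ω' : Type u) [MulAction M Ω'] (X' : Finset Ω'), Inv M X' →
      ∑ x ∈ X', wgt p (S : Subgroup M) x ≤ 0 := by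
    intro Ω' _ X' hX'
    simpa using weighted_nonpos (M := M) (wgt p (S : Subgroup M))
      (fun Y hY htr => orbit_nonpos hgen ih S Y hY htr) (fun _ => 1) (fun _ => by norm_num)
      (fun _ _ => rfl) X' hX'
  have hs1 : (1 : ℤ) ≤ U.card := by
    have : U.Nonempty := by
      rw [Finset.nonempty_iff_ne_empty]
      rintro rfl
      exact hU ⟨S, fun x hx => absurd hx (Finset.notMem_empty x)⟩
    exact_mod_cast Finset.card_pos.mpr this
  by_cases hsing : ∃ u ∈ U, ∀ R : Sylow p M, ¬ (R : Subgroup M) ≤ MulAction.stabilizer M u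
  · obtain ⟨u, hu, hno⟩ := hsing
    set O := X.filter (fun y => y ∈ MulAction.orbit M u) with hO
    have hOset : (O : Set Ω) = MulAction.orbit M u := by
      ext y
      rw [hO, Finset.coe_filter]
      refine ⟨fun h => h.2, fun h => ⟨?_, h⟩⟩
      obtain ⟨g, rfl⟩ := h
      exact hX g u (hUX hu)
    have hOcard : p ≤ O.card := by
      rw [← Set.ncard_coe_finset, hOset, ← MulAction.index_stabilizer]
      refine Nat.le_of_dvd (Nat.pos_of_ne_zero Subgroup.index_ne_zero_of_finite) ?_
      by_contra hnd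
      obtain ⟨T⟩ : Nonempty (Sylow p ↥(MulAction.stabilizer M u)) := inferInstance
      obtain ⟨R, hR⟩ := (T.isPGroup'.map (MulAction.stabilizer M u).subtype).exists_le_sylow
      refine hno R ?_
      have : (T : Subgroup _).map (MulAction.stabilizer M u).subtype = (R : Subgroup M) := by
        refine Subgroup.eq_of_le_of_card_ge hR (le_of_eq ?_)
        rw [Subgroup.card_map_of_injective (Subgroup.subtype_injective _), R.card_eq_multiplicity,
          T.card_eq_multiplicity, ← Subgroup.card_mul_index (MulAction.stabilizer M u),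
          Nat.factorization_mul Nat.card_pos.ne' Subgroup.index_ne_zero_of_finite, Finsupp.add_apply,
          Nat.factorization_eq_zero_of_not_dvd hnd, add_zero]
      rw [← this]
      rintro _ ⟨t, -, rfl⟩
      exact t.2
    have hmove : ∀ y ∈ O, wgt p (S : Subgroup M) y = -((p : ℤ) - 1) := by
      intro y hy
      obtain ⟨g, rfl⟩ := (Finset.mem_filter.mp hy).2
      have hS : ¬ (S : Subgroup M) ≤ MulAction.stabilizer M (g • u) := by
        intro h
        refine hno (g⁻¹ • S) ?_
        rw [Sylow.coe_subgroup_smul, Subgroup.pointwise_smul_def]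
        rintro _ ⟨r, hr, rfl⟩
        rw [MulAction.mem_stabilizer_iff]
        show (g⁻¹ * r * g⁻¹⁻¹) • u = u
        rw [inv_inv, mul_smul, mul_smul, MulAction.mem_stabilizer_iff.mp (h hr), inv_smul_smul]
      unfold wgt
      rw [if_neg (fun h => hS (le_top.trans h.ge)), if_neg hS]
    have hrest : Inv M (X.filter (fun y => ¬ y ∈ MulAction.orbit M u)) := by
      intro m y hy
      rw [Finset.mem_filter] at hy ⊢
      refine ⟨hX m y hy.1, fun ⟨g, hg⟩ => hy.2 ⟨m⁻¹ * g, ?_⟩⟩
      show (m⁻¹ * g) • u = y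
      rw [mul_smul, show g • u = m • y from hg, inv_smul_smul]
    rw [← Finset.sum_filter_add_sum_filter_not X (fun y => y ∈ MulAction.orbit M u),
      Finset.sum_congr rfl hmove, Finset.sum_const, nsmul_eq_mul]
    have h2 := hnp Ω _ hrest
    have hc : (p : ℤ) ≤ O.card := by exact_mod_cast hOcard
    have hp2 : (2 : ℤ) ≤ p := by exact_mod_cast hp.out.two_le
    have e1 := mul_le_mul_of_nonneg_right hc (show (0 : ℤ) ≤ (p : ℤ) - 1 by linarith)
    have e2 := mul_le_mul_of_nonneg_left (show (p : ℤ) - U.card ≤ (p : ℤ) - 1 by linarith)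
      (show (0 : ℤ) ≤ p by linarith)
    linarith
  push Not at hsing
  set U0 := U.filter (fun u => MulAction.stabilizer M u ≠ ⊤) with hU0
  set X1 := X.filter (fun y => ∃ u ∈ U0, y ∈ MulAction.orbit M u) with hX1
  have hX1inv : Inv M X1 := by
    intro m y hy
    rw [hX1, Finset.mem_filter] at hy ⊢
    obtain ⟨hyX, u, hu, g, rfl⟩ := hy
    exact ⟨hX m _ hyX, u, hu, m * g, mul_smul m g u⟩
  have hX2inv : Inv M (X.filter (fun y => ¬ ∃ u ∈ U0, y ∈ MulAction.orbit M u)) := by
    intro m y hy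
    rw [Finset.mem_filter] at hy ⊢
    refine ⟨hX m y hy.1, fun ⟨u, hu, g, hg⟩ => hy.2 ⟨u, hu, m⁻¹ * g, ?_⟩⟩
    show (m⁻¹ * g) • u = y
    rw [mul_smul, show g • u = m • y from hg, inv_smul_smul]
  have hU0sub : U0 ⊆ X1 := fun u hu => Finset.mem_filter.mpr
    ⟨hUX (Finset.mem_filter.mp hu).1, u, hu, MulAction.mem_orbit_self u⟩
  have hU0 : ¬ Covered p M U0 := by
    rintro ⟨R, hR⟩
    refine hU ⟨R, fun u hu => ?_⟩
    by_cases h : MulAction.stabilizer M u = ⊤
    · rw [h]; exact le_top
    · exact hR u (Finset.mem_filter.mpr ⟨hu, h⟩)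
  have hall : ∀ y ∈ X1, MulAction.stabilizer M y ≠ ⊤ ∧
      ∃ R : Sylow p M, (R : Subgroup M) ≤ MulAction.stabilizer M y := by
    intro y hy
    obtain ⟨-, u, hu, g, rfl⟩ := Finset.mem_filter.mp hy
    obtain ⟨huU, hum⟩ := Finset.mem_filter.mp hu
    obtain ⟨R, hR⟩ := hsing u huU
    refine ⟨fun h => hum ?_, g • R, ?_⟩
    · have h2 : g • u = u := MulAction.injective g (moved_smul g h)
      rw [← h2]
      exact h
    · rw [Sylow.coe_subgroup_smul, Subgroup.pointwise_smul_def,
        MulAction.stabilizer_smul_eq_stabilizer_map_conj]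
      exact Subgroup.map_mono hR
  set Y := X1.image (corePt p M) with hY
  set U' := U0.image (corePt p M) with hU'def
  have hgood : ∀ A ∈ Y, MulAction.stabilizer M A ≠ ⊤ ∧
      ∃ R : Sylow p M, (R : Subgroup M) ≤ MulAction.stabilizer M A := by
    intro A hA
    obtain ⟨y, hy, rfl⟩ := Finset.mem_image.mp hA
    obtain ⟨hm, R, hR⟩ := hall y hy
    obtain ⟨h1, h2, -⟩ := corePt_props hgen hm R hR
    exact ⟨h2, R, (h1 R).mpr hR⟩
  have hU' : ¬ Covered p M U' := by
    rintro ⟨R, hR⟩
    refine hU0 ⟨R, fun u hu => ?_⟩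
    obtain ⟨hm, R', hR'⟩ := hall u (hU0sub hu)
    exact ((corePt_props hgen hm R' hR').1 R).mp (hR _ (Finset.mem_image_of_mem _ hu))
  have hU'ne : U'.Nonempty := by
    rw [Finset.nonempty_iff_ne_empty]
    intro h
    exact hU' ⟨S, fun x hx => absurd (h ▸ hx) (Finset.notMem_empty x)⟩
  obtain ⟨a, ha, hamax⟩ := Finset.exists_max_image U' (fun A => Nat.card A.sub) hU'ne
  have hU'p : U'.card ≤ U.card :=
    le_trans Finset.card_image_le (Finset.card_le_card (Finset.filter_subset _ _))
  have hred := bound_reduced ih Y (inv_image_corePt X1 hX1inv) S U'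
    (Finset.image_subset_image hU0sub) hU' (le_trans hU'p hUp) hgood a ha (by
      intro B hB hle
      obtain ⟨yb, hyb, rfl⟩ := Finset.mem_image.mp hB
      obtain ⟨ua, hua, rfl⟩ := Finset.mem_image.mp ha
      obtain ⟨hma, Ra, hRa⟩ := hall ua (hU0sub hua)
      obtain ⟨hmb, Rb, hRb⟩ := hall yb hyb
      rw [(corePt_props hgen hma Ra hRa).2.2] at hle
      have hle' : (corePt p M ua).sub ≤ (corePt p M yb).sub :=
        (Subgroup.closure_le _).mpr fun g hg =>
          pElem_stab_corePt Rb hRb hg.2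
            (MulAction.mem_stabilizer_iff.mp (hle (Subgroup.subset_closure hg)))
      obtain ⟨-, u, hu, g, hg⟩ := Finset.mem_filter.mp hyb
      have hc : Nat.card (corePt p M yb).sub ≤ Nat.card (corePt p M ua).sub := by
        have e : Nat.card (corePt p M yb).sub = Nat.card (corePt p M u).sub := by
          rw [← show g • u = yb from hg]
          show Nat.card (pCore p (MulAction.stabilizer M (g • u))) = _
          rw [MulAction.stabilizer_smul_eq_stabilizer_map_conj, pCore_map,
            Subgroup.card_map_of_injective (MulAut.conj g).injective]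
          rfl
        rw [e]
        exact hamax _ (Finset.mem_image_of_mem _ hu)
      exact SubPt.ext (Subgroup.eq_of_le_of_card_ge hle' hc).symm)
  have hpt : ∀ y ∈ X1, wgt p (S : Subgroup M) y = wgt p (S : Subgroup M) (corePt p M y) := by
    intro y hy
    obtain ⟨hm', R, hR⟩ := hall y hy
    obtain ⟨h1, h2, -⟩ := corePt_props hgen hm' R hR
    unfold wgt
    rw [if_neg hm', if_neg h2]
    simp only [h1 S]
  set k : SubPt M → ℤ := fun A => ((X1.filter (fun y => corePt p M y = A)).card : ℤ) with hk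
  set w : SubPt M → ℤ := fun A => max (k A - 1) 0 with hw
  have hkinv : ∀ (m : M) (A : SubPt M), k (m • A) = k A := by
    intro m A
    simp only [hk, Nat.cast_inj]
    refine Finset.card_nbij' (fun x => m⁻¹ • x) (fun x => m • x) ?_ ?_
      (fun x _ => smul_inv_smul m x) (fun x _ => inv_smul_smul m x)
    · intro x hx
      simp only [Finset.coe_filter, Set.mem_ofPred_eq] at hx ⊢
      exact ⟨hX1inv _ _ hx.1, by rw [corePt_smul, hx.2, inv_smul_smul]⟩
    · intro x hx
      simp only [Finset.coe_filter, Set.mem_ofPred_eq] at hx ⊢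
      exact ⟨hX1inv _ _ hx.1, by rw [corePt_smul, hx.2]⟩
  have hwnp := weighted_nonpos (M := M) (Ω := SubPt M) (wgt p (S : Subgroup M))
    (fun Z hZ htr => orbit_nonpos hgen ih S Z hZ htr) w (fun A => le_max_right _ _)
    (fun m A => by simp only [hw, hkinv]) Y (inv_image_corePt X1 hX1inv)
  have hX1sum : ∑ y ∈ X1, wgt p (S : Subgroup M) y ≤ ∑ A ∈ Y, wgt p (S : Subgroup M) A := by
    rw [Finset.sum_congr rfl hpt, Finset.sum_comp (wgt p (S : Subgroup M)) (corePt p M)]
    have he : ∀ A ∈ Y, (X1.filter (fun y => corePt p M y = A)).card • wgt p (S : Subgroup M) A =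
        wgt p (S : Subgroup M) A + w A * wgt p (S : Subgroup M) A := by
      intro A hA
      obtain ⟨y, hy, rfl⟩ := Finset.mem_image.mp hA
      have hpos : (1 : ℤ) ≤ k (corePt p M y) := by
        simp only [hk]
        exact Int.toNat_le.mp (by simpa using (Finset.card_pos.mpr ⟨y, Finset.mem_filter.mpr ⟨hy, rfl⟩⟩ : 0 < (X1.filter (fun z => corePt p M z = corePt p M y)).card))
      have hwv : w (corePt p M y) = k (corePt p M y) - 1 := max_eq_left (by linarith)
      rw [hwv, nsmul_eq_mul]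
      simp only [hk]
      ring
    rw [Finset.sum_congr rfl he, Finset.sum_add_distrib]
    linarith
  rw [← Finset.sum_filter_add_sum_filter_not X (fun y => ∃ u ∈ U0, y ∈ MulAction.orbit M u)]
  have h2 := hnp Ω _ hX2inv
  have e2 := mul_le_mul_of_nonneg_left
    (show (p : ℤ) - U.card ≤ (p : ℤ) - U'.card by
      have : (U'.card : ℤ) ≤ U.card := by exact_mod_cast hU'p
      linarith) (show (0 : ℤ) ≤ p by positivity)
  linarith

end step

/-- the bound holds for every finite group generated by its `p`-elements -/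
theorem bound_all {p : ℕ} [Fact p.Prime] :
    ∀ (n : ℕ) (M : Type u) [Group M] [Finite M], Nat.card M = n →
      Subgroup.closure {g : M | ∃ k : ℕ, orderOf g = p ^ k} = ⊤ → Bound p M := by
  intro n
  induction n using Nat.strong_induction_on with
  | _ n ih =>
    intro M _ _ hn hgen
    refine bound_step hgen fun A hA hA' => ?_
    refine ih (Nat.card A) ?_ (↥A) rfl hA'
    rw [← hn]
    refine lt_of_le_of_ne (Nat.le_of_dvd Nat.card_pos (Subgroup.card_subgroup_dvd_card A)) ?_
    exact fun h => hA (Subgroup.eq_top_of_card_eq A h)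

/-- fixed points of a Sylow subgroup in a transitive action of a `p`-generated group -/
theorem fix_ratio {p : ℕ} [hp : Fact p.Prime] {M : Type u} [Group M] [Finite M]
    (hgen : Subgroup.closure {g : M | ∃ k : ℕ, orderOf g = p ^ k} = ⊤) {Ω : Type u} [MulAction M Ω]
    [Fintype Ω] (hmoved : ∀ x : Ω, MulAction.stabilizer M x ≠ ⊤) (S : Sylow p M) :
    (2 * p - 1) * (Finset.univ.filter (fun x : Ω => (S : Subgroup M) ≤ MulAction.stabilizer M x)).card
      ≤ (p - 1) * Fintype.card Ω := by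
  rcases isEmpty_or_nonempty Ω with hE | ⟨⟨x0⟩⟩
  · simp [Finset.univ_eq_empty]
  obtain ⟨U, hUX, hUp, hU⟩ := exists_uncovered hgen (Finset.univ : Finset Ω)
    (fun _ _ _ => Finset.mem_univ _) (Finset.mem_univ x0) (hmoved x0)
  have h := bound_all (Nat.card M) M rfl hgen Ω Finset.univ (fun _ _ _ => Finset.mem_univ _) S U
    hUX hU hUp
  set f := (Finset.univ.filter (fun x : Ω => (S : Subgroup M) ≤ MulAction.stabilizer M x)).card
  have e : ∑ x : Ω, wgt p (S : Subgroup M) x =
      (f : ℤ) * p - ((Fintype.card Ω : ℤ) - f) * ((p : ℤ) - 1) := by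
    have hw : ∀ x : Ω, wgt p (S : Subgroup M) x =
        (if (S : Subgroup M) ≤ MulAction.stabilizer M x then (2 * (p : ℤ) - 1) else 0) -
          ((p : ℤ) - 1) := by
      intro x
      unfold wgt
      rw [if_neg (hmoved x)]
      split_ifs <;> ring
    rw [Finset.sum_congr rfl (fun x _ => hw x), Finset.sum_sub_distrib, Finset.sum_ite,
      Finset.sum_const, Finset.sum_const_zero, Finset.sum_const, Finset.card_univ, add_zero,
      nsmul_eq_mul, nsmul_eq_mul]
    ring
  have h0 : (0 : ℤ) ≤ (p : ℤ) * ((p : ℤ) - U.card) := by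
    refine mul_nonneg (by positivity) ?_
    have : (U.card : ℤ) ≤ p := by exact_mod_cast hUp
    linarith
  have hp2 := hp.out.two_le
  have h1 : ((2 * p - 1) * f : ℤ) ≤ ((p : ℤ) - 1) * (Fintype.card Ω) := by nlinarith [e, h, h0]
  zify [show 1 ≤ 2 * p by omega, show 1 ≤ p by omega]
  exact h1

end CfsgLib.SylowCount
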